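import Groth.Agent.SHDescLib.Tools
import Mathlib.FieldTheory.IsAlgClosed.AlgebraicClosure
import Mathlib.RingTheory.Localization.Integral
import Mathlib.Order.Zorn

/-! Realising algebraic residue extensions by unramified separable extensions. -/

set_option autoImplicit false
universe u

noncomputable section

namespace ResExtLib

open IsLocalRing Polynomial

variable {A K Ω : Type u} [CommRing A] [IsDomain A] [IsDiscreteValuationRing A]
  [Field K] [Algebra A K] [IsFractionRing A K] [Field Ω] [Algebra K Ω] [IsAlgClosed Ω]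
  {W : ValuationSubring Ω}

omit [IsAlgClosed Ω] in
theorem mem_of_eval₂ {R : Type u} [CommRing R] (g : R[X]) (hg : g.Monic) (φ : R →+* Ω) (hφ : ∀ r, φ r ∈ W) {z : Ω}
    (hz : g.eval₂ φ z = 0) : z ∈ W := by
  have : IsIntegral W z := by
    refine ⟨g.map (φ.codRestrict W.toSubring hφ), hg.map _, ?_⟩
    rw [eval₂_map]; exact hz
  obtain ⟨w, hw⟩ := IsIntegrallyClosed.isIntegral_iff.1 this
  exact hw ▸ w.2

/-- A root congruent to a given approximate root. -/
theorem exists_root_near {R : Type u} [CommRing R] (g : R[X]) (hg : g.Monic) (φ : R →+* Ω) {w : Ω}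
    (hw : W.valuation (g.eval₂ φ w) < 1) : ∃ z : Ω, g.eval₂ φ z = 0 ∧ W.valuation (w - z) < 1 := by
  let G := g.map φ
  have hGm : G.Monic := hg.map φ
  have h1 : G.eval w = (G.roots.map fun r => w - r).prod := by
    conv_lhs => rw [(IsAlgClosed.splits G).eq_prod_roots_of_monic hGm]
    rw [eval_multiset_prod, Multiset.map_map]
    exact congrArg Multiset.prod (Multiset.map_congr rfl fun r _ => by simp)
  rw [← eval_map, h1, map_multiset_prod, Multiset.map_map] at hw
  by_contra hall
  push Not at hall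
  refine not_le.2 hw (Multiset.one_le_prod ?_)
  intro y hy
  obtain ⟨r, hr, rfl⟩ := Multiset.mem_map.1 hy
  refine hall r ?_
  rw [← eval_map]
  exact (mem_roots hGm.ne_zero).1 hr

theorem isAlgClosed_residue : IsAlgClosed (ResidueField W) := by
  refine IsAlgClosed.of_exists_root _ fun f hf hirr => ?_
  obtain ⟨g, hgf, -, hg⟩ := lifts_and_natDegree_eq_and_monic (f := residue W) (p := f)
    ((mem_lifts f).2 (map_surjective (residue W) residue_surjective f)) hf
  obtain ⟨z, hz⟩ := IsAlgClosed.exists_root (g.map W.subtype) (by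
    rw [hg.degree_map, ← hg.degree_map (residue W), hgf]
    exact (degree_pos_of_irreducible hirr).ne')
  rw [IsRoot, eval_map] at hz
  let zW : W := ⟨z, mem_of_eval₂ g hg W.subtype (fun r => r.2) hz⟩
  refine ⟨residue W zW, ?_⟩
  have h0 : g.eval zW = 0 := Subtype.ext (by
    show W.subtype (g.eval zW) = 0
    rw [← eval₂_at_apply]; exact hz)
  rw [← hgf, eval_map, eval₂_at_apply, h0, map_zero]

variable [Algebra (ResidueField A) (ResidueField W)]
variable (π : A) (S : IntermediateField (ResidueField A) (ResidueField W))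

/-- Separable elements, values of the base, residues in the bound. -/
structure Good (F : IntermediateField K Ω) : Prop where
  sep : ∀ z ∈ F, IsSeparable K z
  val : ∀ z ∈ F, z ≠ 0 → ∃ k : ℤ, W.valuation z = W.valuation (algebraMap K Ω (algebraMap A K π)) ^ k
  res : ∀ w : W, (w : Ω) ∈ F → residue W w ∈ S

variable {π S}
variable (hW : EtRam.Dominates A ((algebraMap K Ω).comp (algebraMap A K)) W)
  (hres : ∀ a : A, algebraMap (ResidueField A) (ResidueField W) (residue A a) =
    residue W ⟨algebraMap K Ω (algebraMap A K a), hW.1 a⟩) (hπ : Irreducible π)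

include hW hres hπ

omit [IsAlgClosed Ω] in
theorem exists_maximal :
    ∃ F : IntermediateField K Ω, Good π S F ∧ ∀ F' : IntermediateField K Ω, F ≤ F' → Good π S F' → F' = F := by
  have hbot : Good π S (⊥ : IntermediateField K Ω) := by
    have h := SHDescLib.unr_bot hW hres
    refine ⟨h.sep, h.val π hπ, fun w hw => ?_⟩
    by_cases hw0 : W.valuation (w : Ω) < 1
    · rw [(residue_eq_zero_iff _).2 ((W.valuation_lt_one_iff _).2 hw0)]; exact zero_mem _
    obtain ⟨c, hc⟩ := IntermediateField.mem_bot.1 hw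
    obtain ⟨a, ha⟩ : ∃ a : A, algebraMap A K a = c := by
      rcases ValuationRing.isInteger_or_isInteger A c with h | ⟨a, ha⟩
      · exact h
      by_cases hu : IsUnit a
      · obtain ⟨b, hb⟩ := isUnit_iff_exists_inv.1 hu
        refine ⟨b, ?_⟩
        have h1 := congrArg (algebraMap A K) hb
        rw [map_mul, map_one, ha] at h1
        exact (eq_inv_of_mul_eq_one_right h1).trans (inv_inv c)
      exfalso
      have h1 : W.valuation (algebraMap K Ω (algebraMap A K a)) < 1 := hW.2 a hu
      rw [ha, map_inv₀, map_inv₀, hc] at h1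
      exact not_le.2 h1 ((one_le_inv₀ (lt_of_lt_of_le zero_lt_one (not_lt.1 hw0))).2 ((W.valuation_le_one_iff _).2 w.2))
    rw [show residue W w = algebraMap (ResidueField A) (ResidueField W) (residue A a) by
      rw [hres]; exact congrArg _ (Subtype.ext (by rw [← hc, ← ha]))]
    exact S.algebraMap_mem _
  obtain ⟨F, -, ⟨hF, hmax⟩⟩ := zorn_le_nonempty₀ {F : IntermediateField K Ω | Good π S F}
    (fun c hc hchain y hy => by
      have hdir : DirectedOn (· ≤ ·) c := hchain.directedOn
      have : Nonempty c := ⟨⟨y, hy⟩⟩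
      refine ⟨sSup c, ?_, fun F hF => le_sSup hF⟩
      have hmem : ∀ z ∈ sSup c, ∃ F ∈ c, z ∈ F := by
        intro z hz
        rw [sSup_eq_iSup', ← SetLike.mem_coe,
          IntermediateField.coe_iSup_of_directed (hdir.directed_val)] at hz
        obtain ⟨⟨F, hF⟩, hzF⟩ := Set.mem_iUnion.1 hz
        exact ⟨F, hF, hzF⟩
      refine ⟨fun z hz => ?_, fun z hz hz0 => ?_, fun w hw => ?_⟩
      · obtain ⟨F, hF, hzF⟩ := hmem z hz; exact (hc hF).sep z hzF
      · obtain ⟨F, hF, hzF⟩ := hmem z hz; exact (hc hF).val z hzF hz0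
      · obtain ⟨F, hF, hzF⟩ := hmem _ hw; exact (hc hF).res w hzF)
    ⊥ hbot
  exact ⟨F, hF, fun F' h1 h2 => le_antisymm (hmax h2 h1) h1⟩

omit hres [IsAlgClosed Ω] in
theorem Good.unif {F : IntermediateField K Ω} (h : Good π S F) :
    ASWeakLib.Unif W F.val.toRingHom (⟨algebraMap K Ω (algebraMap A K π), IntermediateField.algebraMap_mem _ _⟩ : F) := by
  refine ⟨fun h0 => ?_, hW.2 π hπ.not_isUnit, fun z hz => h.val z z.2 fun h0 => hz (Subtype.ext h0)⟩
  have h1 : algebraMap K Ω (algebraMap A K π) = 0 := congrArg Subtype.val h0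
  exact hπ.ne_zero (IsFractionRing.injective A K (by rw [map_zero]; exact ((_root_.map_eq_zero (algebraMap K Ω)).1 h1)))

set_option maxHeartbeats 800000 in
/-- Every element of the bound is reached. -/
theorem exists_larger {F : IntermediateField K Ω} (hF : Good π S F) {c : ResidueField W} (hc : c ∈ S)
    (halg : IsIntegral (ResidueField A) c) (hnot : ∀ w : W, (w : Ω) ∈ F → residue W w ≠ c) :
    ∃ F' : IntermediateField K Ω, F ≤ F' ∧ Good π S F' ∧ F' ≠ F := by
  classical
  let O := W.comap F.val.toRingHom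
  have hU := hF.unif hW hπ
  set xF : F := ⟨algebraMap K Ω (algebraMap A K π), IntermediateField.algebraMap_mem _ _⟩ with hxF
  have hDVR : IsDiscreteValuationRing O := hU.isDVR
  let X₀ : O := ⟨xF, (W.valuation_le_one_iff _).1 hU.lt.le⟩
  let ι : O →+* W := EtRam.inclOfComap W F.val.toRingHom
  have hdom : (∀ b : O, F.val.toRingHom (b : F) ∈ W) ∧
      ∀ b : O, b ∈ maximalIdeal O → W.valuation (F.val.toRingHom (b : F)) < 1 := by
    refine ⟨fun b => b.2, fun b hb => (W.valuation_lt_one_iff (ι b)).1 fun hu => hb (isUnit_of_map_unit ι b hu)⟩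
  have hX : Irreducible X₀ := by
    refine (IsDiscreteValuationRing.irreducible_iff_uniformizer _).2 (le_antisymm (fun b hb => ?_) ?_)
    · have hq : W.valuation (F.val.toRingHom ((b : F) / xF)) ≤ 1 := by
        rw [map_div₀, map_div₀]
        exact div_le_one_of_le₀ (hU.le_of_lt_one (hdom.2 b hb)) zero_le
      refine Ideal.mem_span_singleton.2 ⟨⟨_, (W.valuation_le_one_iff _).1 hq⟩, Subtype.ext ?_⟩
      show (b : F) = xF * ((b : F) / xF)
      rw [mul_div_cancel₀ _ hU.ne]
    · rw [Ideal.span_singleton_le_iff_mem]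
      exact fun hu => hU.lt.ne ((W.valuation_eq_one_iff (ι X₀)).1 (hu.map ι))
  let kF := ResidueField O
  let _ : Algebra kF (ResidueField W) := (ResidueField.map ι).toAlgebra
  let κ : ResidueField A →+* kF :=
    haveI : IsLocalHom (SHDescLib.toO W hW F) := SHDescLib.isLocalHom_toO W hW F
    ResidueField.map (SHDescLib.toO W hW F)
  have hκ : (algebraMap kF (ResidueField W)).comp κ = algebraMap (ResidueField A) (ResidueField W) :=
    RingHom.ext fun r => by
      obtain ⟨a, rfl⟩ := residue_surjective r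
      rw [hres]; rfl
  have hint : IsIntegral kF c := by
    obtain ⟨q, hq, hqc⟩ := halg
    exact ⟨q.map κ, hq.map κ, by rw [eval₂_map, hκ]; exact hqc⟩
  let f := minpoly kF c
  have hirr : Irreducible f := minpoly.irreducible hint
  have hf : f.Monic := minpoly.monic hint
  have hdeg2 : 2 ≤ f.natDegree := by
    refine (minpoly.two_le_natDegree_iff hint).2 ?_
    rintro ⟨r, hr⟩
    obtain ⟨o, rfl⟩ := residue_surjective r
    exact hnot (ι o) (o : F).2 hr
  obtain ⟨g₀, hg₀f, hg₀deg, hg₀⟩ := lifts_and_natDegree_eq_and_monic (f := residue O) (p := f)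
    ((mem_lifts f).2 (map_surjective (residue O) residue_surjective f)) hf
  obtain ⟨g, hg, hgf, hder⟩ : ∃ g : O[X], g.Monic ∧ g.map (residue O) = f ∧ derivative g ≠ 0 := by
    by_cases h0 : derivative g₀ = 0
    · refine ⟨g₀ + C X₀ * X, hg₀.add_of_left ?_, ?_, ?_⟩
      · rw [degree_eq_natDegree hg₀.ne_zero, hg₀deg]
        refine lt_of_le_of_lt (degree_C_mul_X_le _) ?_
        exact_mod_cast hdeg2
      · rw [Polynomial.map_add, Polynomial.map_mul, map_C, (residue_eq_zero_iff X₀).2 hX.not_isUnit, C_0, zero_mul, add_zero, hg₀f]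
      · rw [map_add derivative, h0, zero_add, derivative_C_mul_X, Ne, C_eq_zero]
        exact hX.ne_zero
    · exact ⟨g₀, hg₀, hg₀f, h0⟩
  have hgdeg : g.natDegree = f.natDegree := by rw [← hgf, hg.natDegree_map]
  have hgirr : Irreducible (g.map O.subtype) := by
    have h1 : Irreducible g := Monic.irreducible_of_irreducible_map (residue O) g hg (hgf.symm ▸ hirr)
    exact (hg.irreducible_iff_irreducible_map_fraction_map (K := F)).1 h1
  have hgsep : (g.map O.subtype).Separable := by
    rw [separable_iff_derivative_ne_zero hgirr, derivative_map]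
    exact fun h0 => hder (Polynomial.map_injective O.subtype Subtype.val_injective (by rw [h0, Polynomial.map_zero]))
  obtain ⟨wc, hwc⟩ := residue_surjective c
  let φ : O →+* Ω := F.val.toRingHom.comp O.subtype
  obtain ⟨z, hz, hzw⟩ := exists_root_near (W := W) g hg φ (w := (wc : Ω)) (by
    have h1 : residue W (g.eval₂ ι wc) = 0 := by
      rw [hom_eval₂, show (residue W).comp ι = (algebraMap kF (ResidueField W)).comp (residue O) from RingHom.ext fun _ => rfl,
        ← eval₂_map, hgf, hwc]
      exact minpoly.aeval kF c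
    rw [residue_eq_zero_iff] at h1
    have h2 := (W.valuation_lt_one_iff _).1 h1
    rwa [show ((g.eval₂ ι wc : W) : Ω) = W.subtype (g.eval₂ ι wc) from rfl, hom_eval₂] at h2)
  have hzW : z ∈ W := mem_of_eval₂ g hg φ (fun r => r.2) hz
  let zW : W := ⟨z, hzW⟩
  have hzc : residue W zW = c := by
    rw [← hwc, eq_comm, ← sub_eq_zero, ← map_sub, residue_eq_zero_iff, W.valuation_lt_one_iff]
    exact hzw
  have hsr : IsSeparable F z := by
    refine hgsep.of_dvd (minpoly.dvd F z ?_)
    rw [aeval_def, eval₂_map]; exact hz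
  have hzK : IsSeparable K z := by
    have : Algebra.IsSeparable K F := ⟨fun y => (isSeparable_map_iff F.val F.val.toRingHom.injective).1 (hF.sep y y.2)⟩
    exact IsSeparable.of_algebra_isSeparable_of_isSeparable K hsr
  let G : IntermediateField F Ω := IntermediateField.adjoin F {z}
  let F' : IntermediateField K Ω := G.restrictScalars K
  let d := g.natDegree
  let ev : Fin d → Ω := fun i => z ^ (i : ℕ)
  have hd : 0 < d := by show 0 < g.natDegree; rw [hgdeg]; omega
  have hlayer : EtRamStepLib.Layer W φ 1 (φ X₀) ev X₀ := by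
    refine ⟨hX, (_root_.map_ne_zero F.val.toRingHom).2 hU.ne, hU.lt, by rw [pow_one], fun b hb => ?_⟩
    let P : kF[X] := ∑ j : Fin d, C (residue O (b j)) * X ^ (j : ℕ)
    have hP0 : P ≠ 0 := by
      obtain ⟨j, hj⟩ := hb
      intro h0
      have h1 := congrArg (fun q => q.coeff (j : ℕ)) h0
      simp only [P, finsetSum_coeff, coeff_C_mul, coeff_X_pow, coeff_zero] at h1
      rw [Finset.sum_eq_single j (fun i _ hne => by simp [(Fin.val_ne_iff.2 hne).symm]) (fun h => absurd (Finset.mem_univ j) h)] at h1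
      simp only [if_true, mul_one] at h1
      exact (residue_ne_zero_iff_isUnit _).2 hj h1
    have hPd : P.natDegree < f.natDegree := by
      rw [← hgdeg]
      refine lt_of_le_of_lt (natDegree_sum_le_of_forall_le _ _ (n := d - 1) fun j _ => ?_) (Nat.sub_one_lt hd.ne')
      exact (natDegree_C_mul_X_pow_le _ _).trans (by omega)
    have hne : aeval c P ≠ 0 := fun h0 => by
      have h1 := Polynomial.natDegree_le_of_dvd (minpoly.dvd _ _ h0) hP0
      exact not_le.2 hPd h1
    have hsum : ∑ j, φ (b j) * ev j = ((∑ j, ι (b j) * zW ^ (j : ℕ) : W) : Ω) := by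
      push_cast [φ, ev, ι, zW]; rfl
    rw [hsum, ← W.valuation_eq_one_iff]
    by_contra hn
    refine hne ?_
    have h2 := (residue_eq_zero_iff _).2 (show (∑ j, ι (b j) * zW ^ (j : ℕ)) ∈ maximalIdeal W from hn)
    rw [map_sum] at h2
    simp only [map_mul, map_pow, hzc] at h2
    simp only [P, map_sum, map_mul, map_pow, aeval_X, aeval_C]
    rw [← h2]; rfl
  have hcl : ∀ y ∈ F', EtRamStepLib.Cleared φ X₀ 1 (φ X₀) ev y := fun y hy => by
    have hy' : y ∈ Algebra.adjoin F ({z} : Set Ω) := by
      rw [← IntermediateField.adjoin_simple_toSubalgebra_of_isAlgebraic hsr.isIntegral.isAlgebraic]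
      exact hy
    rw [Algebra.adjoin_singleton_eq_range_aeval] at hy'
    obtain ⟨Q, rfl⟩ := hy'
    have hGm : (g.map O.subtype).Monic := hg.map _
    have hroot : aeval z (g.map O.subtype) = 0 := by rw [aeval_def, eval₂_map]; exact hz
    change EtRamStepLib.Cleared φ X₀ 1 (φ X₀) ev (aeval z Q)
    rw [← aeval_modByMonic_eq_self_of_root hroot, aeval_eq_sum_range' (n := d) (lt_of_lt_of_eq
      (natDegree_modByMonic_lt Q hGm (fun h1 => hd.ne' (by
        show g.natDegree = 0
        rw [← hg.natDegree_map O.subtype, h1, natDegree_one]))) (hg.natDegree_map _)), Finset.sum_range]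
    refine Finset.sum_induction _ _ (fun _ _ => EtRamStepLib.Cleared.add) EtRamStepLib.Cleared.zero fun i _ => ?_
    rw [Algebra.smul_def]
    have h1 := (EtRamStepLib.Cleared.monomial (g := φ) (π := X₀) (x := φ X₀) (e := ev) (0 : Fin 1) i).smul
      (L := F) hX (fun b => rfl) ((Q %ₘ g.map O.subtype).coeff i)
    simpa [ev] using h1
  refine ⟨F', fun y hy => IntermediateField.algebraMap_mem G (⟨y, hy⟩ : F), ⟨fun y hy => ?_, fun y hy hy0 => ?_, fun w hw => ?_⟩, ?_⟩
  · have : F' ≤ separableClosure K Ω := by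
      rw [show F' = IntermediateField.adjoin K ((F : Set Ω) ∪ {z}) from IntermediateField.restrictScalars_adjoin K F {z}]
      refine IntermediateField.adjoin_le_iff.2 ?_
      rintro r (hr | hr)
      · exact mem_separableClosure_iff.2 (hF.sep r hr)
      · exact mem_separableClosure_iff.2 (Set.mem_singleton_iff.1 hr ▸ hzK)
    exact mem_separableClosure_iff.1 (this hy)
  · have hU' := ASWeakLib.unif_of_layer (F' := F') (ι := F'.val.toRingHom)
      (x := (⟨φ X₀, IntermediateField.algebraMap_mem F' _⟩ : F')) hlayer Nat.one_pos (fun r => hcl r r.2)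
    exact hU'.gen ⟨y, hy⟩ fun h0 => hy0 (congrArg Subtype.val h0)
  · obtain ⟨k, b, hb⟩ := hcl _ hw
    choose q hq using hlayer.dvd_of_le_one Nat.one_pos k (w : Ω) b hb ((W.valuation_le_one_iff _).2 w.2)
    have hwsum : w = ∑ j, ι (q 0 j) * zW ^ (j : ℕ) := by
      refine Subtype.ext (mul_left_cancel₀ ((map_ne_zero_iff φ (F.val.toRingHom.injective.comp Subtype.val_injective)).2
        (pow_ne_zero k hX.ne_zero)) ?_)
      rw [hb, Fin.sum_univ_one, Fin.val_zero, pow_zero, one_mul, AddSubmonoidClass.coe_finsetSum, Finset.mul_sum]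
      refine Finset.sum_congr rfl fun j _ => ?_
      rw [hq 0 j, map_mul, mul_assoc]
      push_cast [φ, ev, ι, zW]; rfl
    rw [hwsum, map_sum]
    refine sum_mem fun j _ => ?_
    rw [map_mul, map_pow, hzc]
    exact mul_mem (hF.res _ ((q 0 j : O) : F).2) (pow_mem hc _)
  · intro heq
    exact hnot zW (heq ▸ (IntermediateField.mem_adjoin_simple_self F z : z ∈ F')) hzc

end ResExtLib
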